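/-
Centralisers of Jordan decompositions after base change.
-/
import Mathlib.LinearAlgebra.JordanChevalley
import Mathlib.LinearAlgebra.TensorProduct.Tower
import Mathlib.RingTheory.TensorProduct.Maps
import Mathlib.RingTheory.TensorProduct.Free

set_option autoImplicit false
set_option backward.isDefEq.respectTransparency false

universe u

open TensorProduct

namespace JordanBcLib

variable {k : Type u} [Field k] {V : Type u} [AddCommGroup V] [Module k V]
  {R : Type u} [CommRing R] [Algebra k R]

theorem commute_of_mem_adjoin {h : Module.End R (R ⊗[k] V)} {X Z : Module.End k V}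
    (hX : Commute h (X.baseChange R)) (hZ : Z ∈ Algebra.adjoin k {X}) :
    Commute h (Z.baseChange R) := by
  induction hZ using Algebra.adjoin_induction with
  | mem x hx => rw [Set.mem_singleton_iff.1 hx]; exact hX
  | algebraMap r =>
    rw [show ((algebraMap k (Module.End k V) r).baseChange R) =
      algebraMap R (Module.End R (R ⊗[k] V)) (algebraMap k R r) from
      ((Module.End.baseChangeHom k R V).commutes r).trans (IsScalarTower.algebraMap_apply k R _ r)]
    exact Algebra.commute_algebraMap_right _ h
  | add x y _ _ hx hy => rw [LinearMap.baseChange_add]; exact hx.add_right hy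
  | mul x y _ _ hx hy =>
    rw [show (x * y).baseChange R = x.baseChange R * y.baseChange R from LinearMap.baseChange_mul ..]
    exact hx.mul_right hy

theorem commute_add_iff [PerfectField k] [FiniteDimensional k V]
    (h : Module.End R (R ⊗[k] V)) (Y N : Module.End k V) (hY : Y.IsSemisimple)
    (hN : IsNilpotent N) (hc : Commute Y N) :
    Commute h ((Y + N).baseChange R) ↔ Commute h (Y.baseChange R) ∧ Commute h (N.baseChange R) := by
  refine ⟨fun hX => ?_, fun h' => by rw [LinearMap.baseChange_add]; exact h'.1.add_right h'.2⟩
  obtain ⟨n, hn, s, hs, hn', hs', he⟩ := (Y + N).exists_isNilpotent_isSemisimple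
  have hns : Commute n s :=
    Algebra.commute_of_mem_adjoin_singleton_of_commute hs
      (Algebra.commute_of_mem_adjoin_singleton_of_commute hn (Commute.refl _)).symm
  obtain ⟨rfl, rfl⟩ := Module.End.isNilpotent_isSemisimple_unique hn' hs' hN hY hns hc.symm
    (he.symm.trans (add_comm _ _))
  exact ⟨commute_of_mem_adjoin hX hs, commute_of_mem_adjoin hX hn⟩

theorem main [PerfectField k] [FiniteDimensional k V] (h : Module.End R (R ⊗[k] V)) :
    (∀ (g t u : Module.End k V), IsUnit g → t.IsSemisimple → IsNilpotent (u - 1) → Commute t u → g = t * u →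
      (Commute h (g.baseChange R) ↔ Commute h (t.baseChange R) ∧ Commute h (u.baseChange R))) ∧
    (∀ (X Y N : Module.End k V), Y.IsSemisimple → IsNilpotent N → Commute Y N → X = Y + N →
      (Commute h (X.baseChange R) ↔ Commute h (Y.baseChange R) ∧ Commute h (N.baseChange R))) := by
  refine ⟨?_, fun X Y N hY hN hc hX => hX ▸ commute_add_iff h Y N hY hN hc⟩
  rintro g t u hg ht hu hc rfl
  refine ⟨fun hX => ?_, fun h' => ?_⟩
  · have hc1 : Commute t (u - 1) := hc.sub_right (Commute.one_right t)
    have hsum : t + t * (u - 1) = t * u := by rw [mul_sub, mul_one]; abel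
    have htc : Commute h (t.baseChange R) :=
      ((commute_add_iff h t (t * (u - 1)) ht (hc1.isNilpotent_mul_left hu)
        ((Commute.refl t).mul_right hc1)).1 (by rwa [hsum])).1
    refine ⟨htc, ?_⟩
    obtain ⟨T, hT⟩ := (hc.isUnit_mul_iff.1 hg).1
    have hT' : IsUnit (t.baseChange R) := by
      have := (T.isUnit.map (Module.End.baseChangeHom k R V))
      rwa [hT] at this
    obtain ⟨T', hT'⟩ := hT'
    rw [← hT'] at htc
    have e : u.baseChange R = (↑T'⁻¹ : Module.End R (R ⊗[k] V)) * (t * u).baseChange R := by
      rw [LinearMap.baseChange_mul, ← hT', ← mul_assoc, Units.inv_mul, one_mul]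
    rw [e]
    exact htc.units_inv_right.mul_right hX
  · rw [LinearMap.baseChange_mul]
    exact h'.1.mul_right h'.2

end JordanBcLib
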